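import Cfsg.Agent.H38.K547.Tool
import Cfsg.Agent.H345.K4.Co1
import Cfsg.Agent.MonsterU.CoFrameF
import Cfsg.Agent.S2069

/-!
# S4547: the row of `Co1` (helper38)
-/

set_option autoImplicit false

namespace Cfsg.Agent.H38.K547.Co1

open Cfsg Cfsg.Agent.H821.K547 Cfsg.Agent.H38.K547

universe u

theorem finite_co1 : Finite Spor.Co1 :=
  Nat.finite_of_card_ne_zero (by rw [NotCT.Orders.co1 ⟨MulEquiv.refl _⟩]; norm_num)

/-- from `2^11 : M24` -/
theorem d3_of (h24 : D3 ↥M24) : D3 Spor.Co1 := by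
  have := finite_co1
  exact d3_of_map Cfsg.Agent.MonsterU.CoFrameF.F
    (by rw [Cfsg.Agent.MonsterU.CoFrameF.index_F]; norm_num) Cfsg.Agent.MonsterU.CoFrameF.toM24
    Cfsg.Agent.MonsterU.CoFrameF.toM24_surjective h24

theorem row_of (h24 : D3 ↥M24) {S : Type u} [Group S] (h : Spor.IsoCo1 S) : Row S := by
  obtain ⟨e⟩ := h
  have := finite_co1
  have hfin : Finite S := Finite.of_equiv _ e.symm.toEquiv
  exact row_of_out e Cfsg.Agent.S2069.result
    (Or.inl ⟨Cfsg.Agent.H345.K4.Co1.good5_co1 ⟨e⟩, d3_congr e (d3_of h24)⟩)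

end Cfsg.Agent.H38.K547.Co1
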