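import Cfsg.Agent.H38.K547.Co1
import Cfsg.Agent.H569.K547.M24

/-!
# S4547: the row of `Co1`, closed (helper38; `D3 M24` is helper569's)
-/

set_option autoImplicit false

namespace Cfsg.Agent.H38.K547.Co1

open Cfsg Cfsg.Agent.H821.K547

universe u

theorem d3 : D3 Spor.Co1 := d3_of Cfsg.Agent.H569.K547.d3_m24

theorem row {S : Type u} [Group S] (h : Spor.IsoCo1 S) : Row S := row_of Cfsg.Agent.H569.K547.d3_m24 h

end Cfsg.Agent.H38.K547.Co1
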