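import Cfsg.Agent.H821.K547.Defs
import Cfsg.Prelude.Def_KGroupFacts

/-!
# S4547: `D3` from subgroups of odd index and quotients (helper38)
-/

set_option autoImplicit false

namespace Cfsg.Agent.H38.K547

open Cfsg Cfsg.Agent.H821.K547

universe u v

theorem rk_of_surj {P : Type u} {P' : Type v} [Group P] [Group P'] {n : ℕ} (f : P →* P') (hf : Function.Surjective f)
    (h : Rk n P') : Rk n P := by
  obtain ⟨g, hg⟩ := h
  exact ⟨g.comp f, hg.comp hf⟩

/-- one Sylow subgroup suffices -/
theorem d3_of_card {G : Type u} [Group G] [Finite G] (P : Subgroup G) (hP : IsPGroup 2 P) (hi : ¬ 2 ∣ P.index)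
    (h : Rk 3 P) : D3 G := by
  have : Fact (Nat.Prime 2) := ⟨Nat.prime_two⟩
  intro Q
  let P' : Sylow 2 G := hP.toSylow hi
  have h1 : Rk 3 (P' : Subgroup G) := h
  exact rk_of_surj (Sylow.equiv Q P').toMonoidHom (Sylow.equiv Q P').surjective h1

/-- a subgroup of odd index with a quotient -/
theorem d3_of_map {G : Type u} {Y : Type v} [Group G] [Finite G] [Group Y] (M : Subgroup G) (hM : ¬ 2 ∣ M.index)
    (f : M →* Y) (hf : Function.Surjective f) (hY : D3 Y) : D3 G := by
  have : Fact (Nat.Prime 2) := ⟨Nat.prime_two⟩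
  let P : Sylow 2 M := default
  have h1 : Rk 3 ((P.mapSurjective hf : Sylow 2 Y) : Subgroup Y) := hY _
  have h2 : Rk 3 (P : Subgroup M) :=
    rk_of_surj (f.subgroupMap (P : Subgroup M)) (f.subgroupMap_surjective _) h1
  have h3 : Rk 3 ((P : Subgroup M).map M.subtype) :=
    rk_of_surj ((P : Subgroup M).equivMapOfInjective M.subtype M.subtype_injective).symm.toMonoidHom
      (MulEquiv.surjective _) h2
  refine d3_of_card _ (P.2.map _) ?_ h3
  rw [Subgroup.index_map_subtype]
  intro h4
  rcases Nat.prime_two.dvd_mul.1 h4 with h5 | h5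
  · exact P.not_dvd_index h5
  · exact hM h5

theorem d3_congr {G : Type u} {Y : Type v} [Group G] [Finite G] [Group Y] (e : G ≃* Y) (hY : D3 Y) : D3 G :=
  d3_of_map ⊤ (by rw [Subgroup.index_top]; decide) (Subgroup.topEquiv.trans e).toMonoidHom
    (Subgroup.topEquiv.trans e).surjective hY

/-- no outer automorphisms -/
theorem isInn_of_out {S : Type u} {X : Type v} [Group S] [Group X] (e : S ≃* X) (h : Nat.card (Out X) = 1)
    (τ : MulAut S) : IsInn τ := by
  have h1 : (MulAut.conj : X →* MulAut X).range = ⊤ := by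
    rw [← Subgroup.index_eq_one]
    exact h
  have h2 : (MulAut.congr e) τ ∈ (MulAut.conj : X →* MulAut X).range := by rw [h1]; trivial
  obtain ⟨x, hx⟩ := h2
  refine ⟨e.symm x, fun y => ?_⟩
  have h3 := DFunLike.congr_fun hx (e y)
  have h4 : e (τ y) = x * e y * x⁻¹ := by
    have h5 : (MulAut.congr e τ) (e y) = e (τ y) := by
      show e (τ (e.symm (e y))) = _
      rw [e.symm_apply_apply]
    rw [← h5, ← h3, MulAut.conj_apply]
  apply e.injective
  rw [h4, map_mul, map_mul, map_inv, e.apply_symm_apply]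

/-- the row of a group without outer automorphisms -/
theorem row_of_out {S : Type u} {X : Type v} [Group S] [Group X] (e : S ≃* X) (h : Nat.card (Out X) = 1)
    (hb : BaseRow S) : Row S :=
  ⟨hb, fun τ _ ho => absurd (isInn_of_out e h τ) ho⟩

end Cfsg.Agent.H38.K547
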